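import Cfsg.Agent.SUThreeSylowAut.Group

/-!
Coordinates on a Sylow 2-subgroup of `SU_3(q)`, `q` even.
-/

set_option autoImplicit false
set_option linter.style.haveILetI false

namespace CfsgLib.SUThreeSylowAut

open Matrix CfsgLib.Unitary CfsgLib.AutPSU CfsgLib.Forms CfsgLib.Invol.U3Center

variable {F : Type*} [Field F] [Finite F] {q : ℕ} (hF : Nat.card F = q ^ 2) [CharP F 2]
include hF

/-- The Sylow 2-subgroups of `SU_3(q)` carry coordinates. -/
theorem nonempty_model {n : ℕ} (hn : n ≠ 0) (hq : q = 2 ^ n) (P : Sylow 2 (Cfsg.SU 3 F q)) :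
    Nonempty (Model ↥(P : Subgroup (Cfsg.SU 3 F q)) F q) := by
  classical
  obtain ⟨e, he0, hee⟩ : ∃ v : Fin 3 → F, v ≠ 0 ∧ Cfsg.hermForm 3 F q v v = 0 := by
    obtain ⟨a, ha⟩ := exists_norm_eq hF (one_pow q)
    refine ⟨![1, a, 0], fun h => one_ne_zero (congrFun h 0), ?_⟩
    simp [Cfsg.hermForm, Fin.sum_univ_three, q_ne_zero hF, ← pow_succ', ha, CharTwo.add_self_eq_zero]
  obtain ⟨f, H⟩ := exists_hyp hF he0 hee
  obtain ⟨d, hd, b, Fr⟩ := exists_frame hF H
  obtain rfl : d = 1 := by omega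
  have hsum : ∀ a, InW q e f a → a = Cfsg.hermForm 3 F q a (b 0) • b 0 := by
    intro a ha
    have := Fr.expand a
    rwa [Fin.sum_univ_one, ha.1, ha.2, zero_smul, zero_smul, zero_add, zero_add] at this
  let R := radical hF e H.ee
  let φ' : Cfsg.SU 3 F q → F := fun A => Cfsg.hermForm 3 F q (suMat A *ᵥ f) (b 0)
  let ι' : Cfsg.SU 3 F q → F := fun A => Cfsg.hermForm 3 F q (suMat A *ᵥ f) f
  have hform : ∀ A ∈ R, ∃ a s, InW q e f a ∧ suMat A = eichMat q e a s ∧ φ' A = Cfsg.hermForm 3 F q a (b 0) ∧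
      ι' A = s ∧ a = φ' A • b 0 ∧ s + s ^ q + φ' A ^ (q + 1) = 0 := by
    intro A hA
    obtain ⟨a, s, ha, hs⟩ := (mem_radical hF H).1 hA
    have h1 : φ' A = Cfsg.hermForm 3 F q a (b 0) := by
      simp only [φ', hs, eichMat_apply_f hF H ha, herm_add_left, herm_smul_left,
        hf_swap_zero hF (Fr.inW 0).1, hf_swap_zero hF (Fr.inW 0).2, mul_zero, zero_add, add_zero]
    refine ⟨a, s, ha, hs, h1, ?_, by rw [h1]; exact hsum a ha, ?_⟩
    · simp only [ι', hs, eichMat_apply_f hF H ha, herm_add_left, herm_smul_left, H.ff, H.ef, ha.2,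
        mul_one, zero_add]
    · have h2 := eich_cond hF H ha hs
      rw [hsum a ha, herm_smul_left, herm_smul_right hF, Fr.on, if_pos rfl, mul_one, ← h1, ← pow_succ'] at h2
      exact h2
  have hmk : ∀ w s : F, s + s ^ q + w ^ (q + 1) = 0 → ∃ A ∈ R, φ' A = w ∧ ι' A = s := by
    intro w s hws
    have ha : InW q e f (w • b 0) := ⟨by rw [herm_smul_left, (Fr.inW 0).1, mul_zero],
      by rw [herm_smul_left, (Fr.inW 0).2, mul_zero]⟩
    let A := eich hF e (w • b 0) s H.ee ha.1 (by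
      rw [herm_smul_left, herm_smul_right hF, Fr.on, if_pos rfl, mul_one, ← pow_succ']; exact hws)
    refine ⟨A, ⟨_, s, ha.1, rfl⟩, ?_, ?_⟩
    · show Cfsg.hermForm 3 F q (eichMat q e (w • b 0) s *ᵥ f) (b 0) = w
      simp only [eichMat_apply_f hF H ha, herm_add_left, herm_smul_left, Fr.on, if_pos,
        hf_swap_zero hF (Fr.inW 0).1, hf_swap_zero hF (Fr.inW 0).2, mul_zero, zero_add, add_zero, mul_one]
    · show Cfsg.hermForm 3 F q (eichMat q e (w • b 0) s *ᵥ f) f = s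
      simp only [eichMat_apply_f hF H ha, herm_add_left, herm_smul_left, H.ff, H.ef, (Fr.inW 0).2,
        mul_zero, mul_one, zero_add]
  have hmul : ∀ A ∈ R, ∀ B ∈ R, φ' (A * B) = φ' A + φ' B ∧ ι' (A * B) = ι' A + ι' B - φ' B * φ' A ^ q := by
    intro A hA B hB
    obtain ⟨a, s, ha, hs, h1, h2, ha', -⟩ := hform A hA
    obtain ⟨c, r, hc, hr, g1, g2, hc', -⟩ := hform B hB
    obtain ⟨x, t, hx, ht, k1, k2, -, -⟩ := hform _ (mul_mem hA hB)
    have he : suMat (A * B) = eichMat q e (a + c) (s + r - Cfsg.hermForm 3 F q c a) := by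
      rw [suMat_mul, hs, hr, eichMat_mul hF H.ee ha.1 hc.1]
    have hac : InW q e f (a + c) := ⟨by rw [herm_add_left, ha.1, hc.1, add_zero],
      by rw [herm_add_left, ha.2, hc.2, add_zero]⟩
    constructor
    · show Cfsg.hermForm 3 F q (suMat (A * B) *ᵥ f) (b 0) = _
      simp only [he, eichMat_apply_f hF H hac, herm_add_left, herm_smul_left, h1, g1,
        hf_swap_zero hF (Fr.inW 0).1, hf_swap_zero hF (Fr.inW 0).2, mul_zero, zero_add, add_zero]
    · show Cfsg.hermForm 3 F q (suMat (A * B) *ᵥ f) f = _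
      simp only [he, eichMat_apply_f hF H hac, herm_add_left, herm_smul_left, H.ff, H.ef, ha.2, hc.2,
        mul_one, zero_add]
      rw [h2, g2]
      conv_lhs => rw [ha', hc', herm_smul_left, herm_smul_right hF, Fr.on, if_pos rfl, mul_one]
  have hext : ∀ A ∈ R, ∀ B ∈ R, φ' A = φ' B → ι' A = ι' B → A = B := by
    intro A hA B hB e1 e2
    obtain ⟨a, s, -, hs, -, h2, ha', -⟩ := hform A hA
    obtain ⟨c, r, -, hr, -, g2, hc', -⟩ := hform B hB
    exact suMat_inj (by rw [hs, hr, ha', hc', e1, ← h2, ← g2, e2])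
  -- the radical is a Sylow subgroup
  have hRp : IsPGroup 2 R := radical_pGroup hF H.ee
  have hRcard : Nat.card R = q ^ 3 := by
    have hroot : ∀ w : F, ∃ s, s + s ^ q + w ^ (q + 1) = 0 := fun w => exists_root hF (norm_fixed hF w)
    choose s₀ hs₀ using hroot
    have key : ∀ w s : F, s + s ^ q + w ^ (q + 1) = 0 → (s - s₀ w) ^ q = s - s₀ w := by
      intro w s h
      rw [← frobQ_apply hF, map_sub, frobQ_apply, frobQ_apply, CharTwo.sub_eq_add, CharTwo.sub_eq_add]
      have h0 := hs₀ w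
      have : s + s₀ w + (s ^ q + s₀ w ^ q) = 0 := by linear_combination h + h0 - CharTwo.add_self_eq_zero (w ^ (q + 1))
      exact (CharTwo.add_eq_zero.1 this).symm
    let E : R ≃ F × {x : F // x ^ q = x} :=
      Equiv.ofBijective (fun A => (φ' A.1, ⟨ι' A.1 - s₀ (φ' A.1), by
        obtain ⟨a, s, -, -, -, h2, -, h3⟩ := hform A.1 A.2
        rw [h2]; exact key _ _ h3⟩)) ⟨by
      rintro ⟨A, hA⟩ ⟨B, hB⟩ h
      obtain ⟨e1, e2⟩ := Prod.mk.injEq .. ▸ h
      have e3 : ι' A - s₀ (φ' A) = ι' B - s₀ (φ' B) := congrArg Subtype.val e2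
      rw [e1, sub_left_inj] at e3
      exact Subtype.ext (hext A hA B hB e1 e3), by
      rintro ⟨w, x, hx⟩
      obtain ⟨A, hA, e1, e2⟩ := hmk w (s₀ w + x) (by
        rw [add_pow_q hF, hx]
        linear_combination hs₀ w + CharTwo.add_self_eq_zero x)
      exact ⟨⟨A, hA⟩, Prod.ext e1 (Subtype.ext (by show ι' A - s₀ (φ' A) = x; rw [e1, e2, add_sub_cancel_left]))⟩⟩
    rw [Nat.card_congr E, Nat.card_prod, hF, card_fixed hF]; ring
  have hSU : Nat.card (Cfsg.SU 3 F q) = q ^ 3 * ((q ^ 2 - 1) * (q ^ 3 + 1)) := by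
    have h := card_SU_mul hF (n := 3) (by norm_num)
    rw [card_GU hF, Finset.prod_range_succ, Finset.prod_range_succ, Finset.prod_range_one] at h
    norm_num [show ¬ Even 1 from by decide, show Even 2 from by decide] at h
    apply Nat.eq_of_mul_eq_mul_left (show 0 < q + 1 by omega)
    rw [h]; ring
  have hidx : ¬ 2 ∣ R.index := by
    have h := R.card_mul_index
    rw [hRcard, hSU] at h
    have hqpos : 0 < q ^ 3 := by rw [hq]; positivity
    rw [Nat.eq_of_mul_eq_mul_left hqpos h]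
    have h2 : 2 ∣ q := hq ▸ dvd_pow_self 2 hn
    rw [Nat.prime_two.dvd_mul]
    rintro (hd | hd)
    · have h4 : 2 ∣ q ^ 2 := dvd_pow h2 two_ne_zero
      have : 1 ≤ q ^ 2 := Nat.one_le_pow _ _ (by rw [hq]; positivity)
      omega
    · have h8 : 2 ∣ q ^ 3 := dvd_pow h2 three_ne_zero
      omega
  let θ : ↥(P : Subgroup (Cfsg.SU 3 F q)) ≃* R := P.equiv (hRp.toSylow hidx)
  refine ⟨(Model.pull ?_ θ)⟩
  exact
    { φ := fun A => φ' A.1
      ι := fun A => ι' A.1
      φ_mul := fun A B => (hmul _ A.2 _ B.2).1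
      ι_mul := fun A B => by
        show ι' (A.1 * B.1) = _
        rw [(hmul _ A.2 _ B.2).2, CharTwo.sub_eq_add]
      eq_of := fun A B h h' => Subtype.ext (hext _ A.2 _ B.2 h h')
      cond := fun A => by
        obtain ⟨a, s, -, -, -, h2, -, h3⟩ := hform _ A.2
        rw [h2]; exact h3
      surj := fun w s h => by
        obtain ⟨A, hA, e1, e2⟩ := hmk w s h
        exact ⟨⟨A, hA⟩, e1, e2⟩ }

end CfsgLib.SUThreeSylowAut
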