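import Cfsg.Agent.SUThreeSylowAut.Group
import Cfsg.Prelude.Def_LieRecognition

/-!
The group with coordinates `(w, s)` is a Suzuki 2-group.
-/

set_option autoImplicit false
set_option linter.style.haveILetI false

namespace CfsgLib.SUThreeSylowAut

open CfsgLib.Unitary CfsgLib.AutPSU CfsgLib.Forms

universe u v

theorem suzuki {F : Type v} [Field F] [Finite F] [CharP F 2] {q n : ℕ} (hF : Nat.card F = q ^ 2) (hn : 2 ≤ n)
    (hq : q = 2 ^ n) {T : Type u} [Group T] (M : Model T F q) :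
    Nat.card T = q ^ 3 ∧ Nat.card (Subgroup.center T) = q ∧ Cfsg.IsSuzukiTwoGroup T := by
  classical
  have hq0 : q ≠ 0 := by rw [hq]; positivity
  have hq4 : 4 ≤ q := by rw [hq]; exact Nat.pow_le_pow_right (by norm_num : 1 ≤ 2) hn
  have hNK := CfsgLib.Invol.U3Center.norm_fixed hF
  haveI hfin : Finite T := Finite.of_injective (fun x => (M.φ x, M.ι x)) fun x y h =>
    M.eq_of x y (congrArg Prod.fst h) (congrArg Prod.snd h)
  have hφ1 : M.φ 1 = 0 := by
    have := M.φ_mul 1 1
    rwa [mul_one, left_eq_add] at this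
  have hι1 : M.ι 1 = 0 := by
    have := M.ι_mul 1 1
    rwa [mul_one, hφ1, zero_mul, add_zero, left_eq_add] at this
  have hιK : ∀ z, M.φ z = 0 → M.ι z ^ q = M.ι z := by
    intro z hz
    have := M.cond z
    rw [hz, zero_pow (Nat.succ_ne_zero q), add_zero] at this
    exact (CharTwo.add_eq_zero.1 this).symm
  have hsq : ∀ x, M.φ (x * x) = 0 ∧ M.ι (x * x) = M.φ x ^ (q + 1) := fun x =>
    ⟨by rw [M.φ_mul, CharTwo.add_self_eq_zero], by
      rw [M.ι_mul, CharTwo.add_self_eq_zero, zero_add, ← pow_succ']⟩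
  have hinv : ∀ x, x * x = 1 ↔ M.φ x = 0 := by
    intro x
    refine ⟨fun h => ?_, fun h => M.eq_of _ _ (by rw [(hsq x).1, hφ1])
      (by rw [(hsq x).2, h, zero_pow (Nat.succ_ne_zero q), hι1])⟩
    have h2 := (hsq x).2
    rw [h, hι1] at h2
    exact eq_zero_of_pow_eq_zero h2.symm
  have hcenter : ∀ z, z ∈ Subgroup.center T ↔ M.φ z = 0 := by
    intro z
    rw [Subgroup.mem_center_iff]
    constructor
    · intro hz
      by_contra h0
      have key : ∀ u : F, M.φ z * u ^ q = u * M.φ z ^ q := fun u => by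
        obtain ⟨s, hs⟩ := exists_root hF (hNK u)
        obtain ⟨x, hx, -⟩ := M.surj u s hs
        have h := congrArg M.ι (hz x)
        rw [M.ι_mul, M.ι_mul, hx] at h
        linear_combination h
      have hwK : M.φ z ^ q = M.φ z := by
        have := key 1
        rwa [one_pow, mul_one, one_mul, eq_comm] at this
      exact frobQ_ne_id hF (RingHom.ext fun u => by
        rw [frobQ_apply hF]
        have := key u
        rw [hwK, mul_comm u] at this
        exact mul_left_cancel₀ h0 this)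
    · intro hz x
      exact M.eq_of _ _ (by rw [M.φ_mul, M.φ_mul, add_comm])
        (by rw [M.ι_mul, M.ι_mul, hz, zero_pow hq0, mul_zero, zero_mul]; ring)
  -- the fixed field
  let K : Subfield F := (frobQ hF).eqLocusField (RingHom.id F)
  have hK : ∀ z : F, z ∈ K ↔ z ^ q = z := fun z => by
    show frobQ hF z = z ↔ _
    rw [frobQ_apply hF]
  have hKcard : Nat.card K = q := by
    rw [Nat.card_congr (Equiv.subtypeEquivRight hK), CfsgLib.Invol.U3Center.card_fixed hF]
  let eZ : Subgroup.center T ≃ K := Equiv.ofBijective (fun z => ⟨M.ι z.1, (hK _).2 (hιK _ ((hcenter _).1 z.2))⟩)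
    ⟨fun a b h => Subtype.ext (M.eq_of _ _ (by rw [(hcenter _).1 a.2, (hcenter _).1 b.2]) (congrArg Subtype.val h)),
      fun k => by
        obtain ⟨x, hx, hx'⟩ := M.surj 0 k (by
          rw [(hK _).1 k.2, zero_pow (Nat.succ_ne_zero q), add_zero, CharTwo.add_self_eq_zero])
        exact ⟨⟨x, (hcenter x).2 hx⟩, Subtype.ext hx'⟩⟩
  have hZ : Nat.card (Subgroup.center T) = q := by rw [Nat.card_congr eZ, hKcard]
  let φh : T →* Multiplicative F := MonoidHom.mk' (fun x => Multiplicative.ofAdd (M.φ x)) fun x y => by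
    rw [M.φ_mul]; rfl
  have hφsurj : Function.Surjective φh := fun w => by
    obtain ⟨s, hs⟩ := exists_root hF (hNK w.toAdd)
    obtain ⟨x, hx, -⟩ := M.surj _ s hs
    exact ⟨x, congrArg Multiplicative.ofAdd hx⟩
  have hker : φh.ker = Subgroup.center T := by
    ext z
    rw [MonoidHom.mem_ker, hcenter]
    exact ⟨fun h => congrArg Multiplicative.toAdd h, fun h => congrArg Multiplicative.ofAdd h⟩
  have hT : Nat.card T = q ^ 3 := by
    rw [Subgroup.card_eq_card_quotient_mul_card_subgroup φh.ker,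
      Nat.card_congr (QuotientGroup.quotientKerEquivOfSurjective φh hφsurj).toEquiv,
      Nat.card_congr (Multiplicative.toAdd (α := F)), hF, hker, hZ]
    ring
  refine ⟨hT, hZ, hfin, fun x => ⟨2, ?_⟩, ?_, ?_, ?_⟩
  · rw [show (2 : ℕ) ^ 2 = 2 * 2 by norm_num, pow_mul, pow_two, pow_two]
    exact (hinv _).2 (hsq x).1
  · by_contra h
    push Not at h
    have : Subgroup.center T = ⊤ := eq_top_iff.2 fun z _ => Subgroup.mem_center_iff.2 fun g => h g z
    rw [this, Subgroup.card_top, hT] at hZ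
    nlinarith [Nat.pow_le_pow_left hq4 2]
  · have hk : ∀ k : K, ∃ x : T, M.φ x = 0 ∧ M.ι x = k := fun k =>
      ⟨(eZ.symm k).1, (hcenter _).1 (eZ.symm k).2, congrArg Subtype.val (eZ.apply_symm_apply k)⟩
    obtain ⟨k, hk0, hk1⟩ : ∃ k : K, k ≠ 0 ∧ k ≠ 1 := by
      by_contra h
      push Not at h
      have : Nat.card K ≤ 2 := by
        let f : K → Bool := fun k => decide (k = 0)
        refine (Nat.card_le_card_of_injective f fun a b hab => ?_).trans (by simp)
        by_cases ha : a = 0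
        · exact ha.trans ((decide_eq_decide.1 hab).1 ha).symm
        · have hb : b ≠ 0 := fun e => ha ((decide_eq_decide.1 hab).2 e)
          rw [h a ha, h b hb]
      omega
    obtain ⟨x, hx, hx'⟩ := hk 1
    obtain ⟨y, hy, hy'⟩ := hk k
    refine ⟨x, y, fun e => hk1 (Subtype.ext ?_), fun e => ?_, (hinv x).2 hx, fun e => ?_, (hinv y).2 hy⟩
    · rw [← hy', ← e, hx']
    · rw [e, hι1] at hx'
      exact one_ne_zero (Subtype.ext hx'.symm : (1 : K) = 0)
    · rw [e, hι1] at hy'
      exact hk0 (Subtype.ext hy'.symm)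
  -- the scalars of the fixed field
  have hsc : ∀ (u : Kˣ) (x : T), ∃ y, M.φ y = ((u : K) : F) * M.φ x ∧ M.ι y = ((u : K) : F) ^ 2 * M.ι x := by
    intro u x
    refine M.surj _ _ ?_
    have h1 : ((u : K) : F) ^ (q + 1) = ((u : K) : F) ^ 2 := by rw [pow_succ, (hK _).1 (u : K).2, pow_two]
    rw [mul_pow, mul_pow, pow_right_comm, (hK _).1 (u : K).2, h1, ← mul_add, ← mul_add, M.cond, mul_zero]
  choose f hf₁ hf₂ using hsc
  have hfmul : ∀ u v x, f (u * v) x = f u (f v x) := fun u v x => M.eq_of _ _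
    (by rw [hf₁, hf₁, hf₁, Units.val_mul, Subfield.coe_mul, mul_assoc])
    (by rw [hf₂, hf₂, hf₂, Units.val_mul, Subfield.coe_mul, mul_pow, mul_assoc])
  have hfone : ∀ x, f 1 x = x := fun x => M.eq_of _ _
    (by rw [hf₁, Units.val_one, Subfield.coe_one, one_mul])
    (by rw [hf₂, Units.val_one, Subfield.coe_one, one_pow, one_mul])
  let A : Kˣ →* MulAut T :=
    { toFun := fun u =>
        { toFun := f u
          invFun := f u⁻¹
          left_inv := fun x => by rw [← hfmul, inv_mul_cancel, hfone]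
          right_inv := fun x => by rw [← hfmul, mul_inv_cancel, hfone]
          map_mul' := fun x y => M.eq_of _ _ (by rw [hf₁, M.φ_mul, M.φ_mul, hf₁, hf₁, mul_add])
            (by rw [hf₂, M.ι_mul, M.ι_mul, hf₂, hf₂, hf₁, hf₁, mul_pow, (hK _).1 (u : K).2]; ring) }
      map_one' := MulEquiv.ext hfone
      map_mul' := fun u v => MulEquiv.ext fun x => hfmul u v x }
  haveI : IsCyclic Kˣ := inferInstance
  refine ⟨A.range, isCyclic_of_surjective _ A.rangeRestrict_surjective, fun x y hx1 hx hy1 hy => ?_⟩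
  have hxφ := (hinv x).1 hx
  have hyφ := (hinv y).1 hy
  have hx0 : M.ι x ≠ 0 := fun h => hx1 (M.eq_of _ _ (hxφ.trans hφ1.symm) (h.trans hι1.symm))
  have hy0 : M.ι y ≠ 0 := fun h => hy1 (M.eq_of _ _ (hyφ.trans hφ1.symm) (h.trans hι1.symm))
  let r : K := ⟨M.ι y / M.ι x, (hK _).2 (by rw [div_pow, hιK y hyφ, hιK x hxφ])⟩
  obtain ⟨d, hd⟩ := (Finite.injective_iff_surjective.1 (frobenius_inj K 2)) r
  rw [frobenius_def] at hd
  have hd0 : d ≠ 0 := fun h => by
    rw [h, zero_pow two_ne_zero] at hd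
    exact div_ne_zero hy0 hx0 (congrArg Subtype.val hd).symm
  have hd' : ((d : K) : F) ^ 2 = M.ι y / M.ι x := congrArg Subtype.val hd
  refine ⟨⟨A (Units.mk0 d hd0), ⟨_, rfl⟩⟩, M.eq_of _ _ (by rw [show (A (Units.mk0 d hd0)) x = f _ x from rfl, hf₁, hxφ, hyφ, mul_zero])
    (by rw [show (A (Units.mk0 d hd0)) x = f _ x from rfl, hf₂, Units.val_mk0, hd', div_mul_cancel₀ _ hx0]), ?_⟩
  rintro ⟨_, u, rfl⟩ hu
  refine Subtype.ext (congrArg A (Units.ext (frobenius_inj K 2 ?_)))
  rw [frobenius_def, frobenius_def, Units.val_mk0, hd]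
  refine Subtype.ext ?_
  have h := congrArg M.ι hu
  rw [show M.ι ((A u) x) = M.ι (f u x) from rfl, hf₂] at h
  show ((u : K) : F) ^ 2 = M.ι y / M.ι x
  rw [← h, mul_div_cancel_right₀ _ hx0]

end CfsgLib.SUThreeSylowAut
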