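import Cfsg.Agent.Invol.U3Center

/-!
The additive maps of the field with `q²` elements (`q` even) that carry the norm to the norm, up to an
additive map of the fixed field, are the semilinear maps.
-/

set_option autoImplicit false
set_option linter.style.haveILetI false

namespace CfsgLib.SUThreeSylowAut

open CfsgLib.Unitary CfsgLib.AutPSU CfsgLib.Forms

variable {F : Type*} [Field F] [Finite F] {q : ℕ} (hF : Nat.card F = q ^ 2) [CharP F 2]
include hF

theorem exists_sq_root {c : F} (hc : c ^ q = c) : ∃ d : F, d ^ q = d ∧ d ^ (q + 1) = c := by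
  have := Fintype.ofFinite F
  have hsq : Function.Surjective (frobenius F 2) := Finite.injective_iff_surjective.1 (frobenius_inj F 2)
  obtain ⟨d, hd⟩ := hsq c
  rw [frobenius_def] at hd
  have hdK : d ^ q = d := by
    apply frobenius_inj F 2
    rw [frobenius_def, frobenius_def, pow_right_comm, hd, hc]
  exact ⟨d, hdK, by rw [pow_succ, hdK, ← pow_two, hd]⟩

/-- Normalised maps carrying the norm to the norm are multiplicative. -/
theorem mul_of_norm (A : F →+ F) (hA : Function.Injective A) (B : F → F)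
    (hBinj : ∀ c d : F, c ^ q = c → d ^ q = d → B c = B d → c = d)
    (hBadd : ∀ c d : F, c ^ q = c → d ^ q = d → B (c + d) = B c + B d)
    (hAB : ∀ w, (A w) ^ (q + 1) = B (w ^ (q + 1))) (hone : A 1 = 1) :
    ∀ x y, A (x * y) = A x * A y := by
  have hq0 : q ≠ 0 := fun h => by
    rw [h, zero_pow two_ne_zero] at hF
    exact Nat.card_pos.ne' hF
  set P : F → F → F := fun w u => w * u ^ q + u * w ^ q with hP
  have hPK : ∀ w u, P w u ^ q = P w u := fun w u => by
    simp only [hP, add_pow_q hF, mul_pow, pow_q_q hF]; ring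
  have hNK := CfsgLib.Invol.U3Center.norm_fixed hF
  have hNadd := CfsgLib.Invol.U3Center.norm_add hF
  have hKadd : ∀ {a b : F}, a ^ q = a → b ^ q = b → (a + b) ^ q = a + b := fun ha hb => by
    rw [add_pow_q hF, ha, hb]
  have hpol : ∀ w u, P (A w) (A u) = B (P w u) := by
    intro w u
    have h1 := hNadd (A w) (A u)
    rw [← map_add, hAB, hNadd, hBadd _ _ (hKadd (hNK w) (hNK u)) (hPK w u),
      hBadd _ _ (hNK w) (hNK u), hAB, hAB] at h1
    exact (add_left_cancel h1).symm
  have hB0 : B 0 = 0 := by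
    have := hBadd 0 0 (zero_pow hq0) (zero_pow hq0)
    rwa [add_zero, left_eq_add] at this
  have hK1 : ∀ v : F, P 1 v = v + v ^ q := fun v => by simp only [hP, one_pow]; ring
  have hAK : ∀ j, j ^ q = j → A j ^ q = A j := by
    intro j hj
    have h := hpol 1 j
    rw [hone, hK1, hK1, hj, CharTwo.add_self_eq_zero, hB0] at h
    exact (CharTwo.add_eq_zero.1 h).symm
  -- away from the fixed field
  have hline : ∀ u, u ^ q ≠ u → ∀ k, k ^ q = k → A (k * u) = A k * A u ∧
      ∀ j, j ^ q = j → A j * A k * B (u + u ^ q) = B (j * k * (u + u ^ q)) := by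
    intro u hu k hk
    have hTu : u + u ^ q ≠ 0 := fun h => hu (CharTwo.add_eq_zero.1 h).symm
    have hTK : (u + u ^ q) ^ q = u + u ^ q := by rw [add_pow_q hF, pow_q_q hF, add_comm]
    have hu0 : u ≠ 0 := fun h => hu (by rw [h, zero_pow hq0])
    have hAu0 : A u ≠ 0 := fun h => hu0 (hA (by rw [h, map_zero]))
    have hd : A u + A u ^ q = B (u + u ^ q) := by
      have := hpol 1 u
      rwa [hone, hK1, hK1] at this
    have hd0 : B (u + u ^ q) ≠ 0 := fun h => hTu (hBinj _ _ hTK (zero_pow hq0) (h.trans hB0.symm))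
    have hαK : ∀ k, k ^ q = k → (A (k * u) / A u) ^ q = A (k * u) / A u := by
      intro k hk
      have h := hpol u (k * u)
      have h0 : P u (k * u) = 0 := by
        simp only [hP, mul_pow, hk]
        rw [show u * (k * u ^ q) = k * u * u ^ q by ring]
        exact CharTwo.add_self_eq_zero _
      rw [h0, hB0] at h
      have h' := CharTwo.add_eq_zero.1 h
      rw [div_pow, div_eq_div_iff (pow_ne_zero _ hAu0) hAu0]
      linear_combination h'
    have hkey : ∀ j k, j ^ q = j → k ^ q = k →
        A j * (A (k * u) / A u) * B (u + u ^ q) = B (j * k * (u + u ^ q)) := by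
      intro j k hj hk
      have h := hpol j (k * u)
      have e1 : P j (k * u) = j * k * (u + u ^ q) := by simp only [hP, mul_pow, hj, hk]; ring
      rw [e1] at h
      rw [← h, ← hd]
      have e2 : A (k * u) = A (k * u) / A u * A u := (div_mul_cancel₀ _ hAu0).symm
      generalize hα : A (k * u) / A u = α at e2 ⊢
      have hαK' : α ^ q = α := hα ▸ hαK k hk
      simp only [hP, e2, mul_pow, hαK', hAK j hj]; ring
    have hα : A (k * u) / A u = A k := by
      have h1 := hkey 1 k (one_pow q) hk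
      have h2 := hkey k 1 hk (one_pow q)
      rw [one_mul, div_self hAu0, mul_one, mul_one] at h2
      rw [hone, one_mul, one_mul] at h1
      exact mul_right_cancel₀ hd0 (h1.trans h2.symm)
    refine ⟨by rw [← hα, div_mul_cancel₀ _ hAu0], fun j hj => ?_⟩
    rw [← hα]
    exact hkey j k hj hk
  obtain ⟨u₀, hu₀⟩ : ∃ u : F, u ^ q ≠ u := by
    by_contra h
    push Not at h
    exact frobQ_ne_id hF (RingHom.ext fun x => by rw [frobQ_apply hF]; exact h x)
  have hKmul : ∀ j k, j ^ q = j → k ^ q = k → A (j * k) = A j * A k := by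
    intro j k hj hk
    have hjk : (j * k) ^ q = j * k := by rw [mul_pow, hj, hk]
    have h1 := (hline u₀ hu₀ k hk).2 j hj
    have h2 := (hline u₀ hu₀ (j * k) hjk).2 1 (one_pow q)
    rw [hone, one_mul, one_mul, ← h1] at h2
    have hTu : u₀ + u₀ ^ q ≠ 0 := fun h => hu₀ (CharTwo.add_eq_zero.1 h).symm
    have hTK : (u₀ + u₀ ^ q) ^ q = u₀ + u₀ ^ q := by rw [add_pow_q hF, pow_q_q hF, add_comm]
    exact mul_right_cancel₀ (fun h => hTu (hBinj _ _ hTK (zero_pow hq0) (h.trans hB0.symm))) h2
  have hBA : ∀ c, c ^ q = c → B c = A c := by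
    intro c hc
    obtain ⟨d, hd, hdc⟩ := exists_sq_root hF hc
    rw [← hdc, ← hAB, pow_succ, hAK d hd, ← hKmul d d hd hd, pow_succ, hd]
  have hKleft : ∀ k, k ^ q = k → ∀ v, A (k * v) = A k * A v := by
    intro k hk v
    rcases eq_or_ne (v ^ q) v with hv | hv
    · exact hKmul k v hk hv
    · exact (hline v hv k hk).1
  intro w v
  rcases eq_or_ne (w ^ q) w with hw | hw
  · exact hKleft w hw v
  have hTw : w + w ^ q ≠ 0 := fun h => hw (CharTwo.add_eq_zero.1 h).symm
  have hTwK : (w + w ^ q) ^ q = w + w ^ q := by rw [add_pow_q hF, pow_q_q hF, add_comm]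
  set l := (v + v ^ q) / (w + w ^ q) with hl
  have hlK : l ^ q = l := by rw [hl, div_pow, hTwK, add_pow_q hF, pow_q_q hF, add_comm]
  set k := v + l * w with hk
  have hlT : l * (w + w ^ q) = v + v ^ q := by rw [hl, div_mul_cancel₀ _ hTw]
  have hkK : k ^ q = k := by
    refine (CharTwo.add_eq_zero.1 ?_).symm
    rw [hk, add_pow_q hF, mul_pow, hlK,
      show v + l * w + (v ^ q + l * w ^ q) = (v + v ^ q) + l * (w + w ^ q) by ring, hlT,
      CharTwo.add_self_eq_zero]
  have hw2 : A (w * w) = A w * A w := by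
    have hd : A w + A w ^ q = B (w + w ^ q) := by
      have := hpol 1 w
      rwa [hone, hK1, hK1] at this
    have e : ∀ x : F, x * x = (x + x ^ q) * x + x ^ (q + 1) := fun x => by
      rw [add_mul, ← pow_succ, add_assoc, CharTwo.add_self_eq_zero, add_zero]
    rw [e w, map_add, hKleft _ hTwK, ← hBA _ hTwK, ← hBA _ (hNK w), ← hd, ← hAB, ← e]
  have hv : v = k + l * w := by rw [hk, add_assoc, CharTwo.add_self_eq_zero, add_zero]
  rw [hv, show w * (k + l * w) = k * w + l * (w * w) by ring, map_add, map_add, hKleft k hkK,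
    hKleft l hlK, hKleft l hlK, hw2]
  ring

/-- Norm preserving maps are semilinear. -/
theorem exists_semilinear (A : F →+ F) (hA : Function.Injective A) (B : F → F)
    (hBinj : ∀ c d : F, c ^ q = c → d ^ q = d → B c = B d → c = d)
    (hBadd : ∀ c d : F, c ^ q = c → d ^ q = d → B (c + d) = B c + B d)
    (hAB : ∀ w, (A w) ^ (q + 1) = B (w ^ (q + 1))) :
    ∃ (a : Fˣ) (σ : F ≃+* F), ∀ w, A w = (a : F) * σ w := by
  have ha : A 1 ≠ 0 := fun h => one_ne_zero (hA (h.trans A.map_zero.symm))
  let A' : F →+ F := (AddMonoidHom.mulLeft (A 1)⁻¹).comp A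
  have hA'inj : Function.Injective A' := fun x y h => hA (mul_left_cancel₀ (inv_ne_zero ha) h)
  have hmul := mul_of_norm hF A' hA'inj (fun c => ((A 1)⁻¹) ^ (q + 1) * B c)
    (fun c d hc hd h => hBinj c d hc hd (mul_left_cancel₀ (pow_ne_zero _ (inv_ne_zero ha)) h))
    (fun c d hc hd => by show _ * B (c + d) = _; rw [hBadd c d hc hd, mul_add])
    (fun w => by show ((A 1)⁻¹ * A w) ^ (q + 1) = _; rw [mul_pow, hAB])
    (inv_mul_cancel₀ ha)
  refine ⟨Units.mk0 _ ha, RingEquiv.ofBijective
    ({ A' with map_one' := inv_mul_cancel₀ ha, map_mul' := hmul } : F →+* F)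
    (Finite.injective_iff_bijective.1 hA'inj), fun w => ?_⟩
  show A w = A 1 * ((A 1)⁻¹ * A w)
  rw [mul_inv_cancel_left₀ ha]

end CfsgLib.SUThreeSylowAut
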