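import Cfsg.Agent.SUThreeSylowAut.Semilinear
import Cfsg.Agent.Recog.FieldSpan
import Cfsg.Prelude.Def_Solvable
import Cfsg.Prelude.Def_Transfer

/-!
The automorphism group of the group of pairs `(w, s)` with `s + s^q + w^(q+1) = 0` and product
`(w, s)(w', s') = (w + w', s + s' + w' w^q)`, `q` even.
-/

set_option autoImplicit false
set_option linter.style.haveILetI false

namespace CfsgLib.SUThreeSylowAut

open CfsgLib.Unitary CfsgLib.AutPSU CfsgLib.Forms

universe u v

/-- Coordinates on a group. -/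
structure Model (T : Type u) [Group T] (F : Type v) [Field F] (q : ℕ) where
  /-- coordinate modulo the centre -/
  φ : T → F
  /-- second coordinate -/
  ι : T → F
  φ_mul : ∀ x y, φ (x * y) = φ x + φ y
  ι_mul : ∀ x y, ι (x * y) = ι x + ι y + φ y * φ x ^ q
  eq_of : ∀ x y, φ x = φ y → ι x = ι y → x = y
  cond : ∀ x, ι x + ι x ^ q + φ x ^ (q + 1) = 0
  surj : ∀ w s, s + s ^ q + w ^ (q + 1) = 0 → ∃ x, φ x = w ∧ ι x = s

/-- The model transported along an isomorphism. -/
def Model.pull {T : Type u} [Group T] {F : Type v} [Field F] {q : ℕ} (M : Model T F q) {T' : Type*} [Group T'] (e : T' ≃* T) :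
    Model T' F q where
  φ x := M.φ (e x)
  ι x := M.ι (e x)
  φ_mul x y := by rw [map_mul, M.φ_mul]
  ι_mul x y := by rw [map_mul, M.ι_mul]
  eq_of x y h h' := e.injective (M.eq_of _ _ h h')
  cond x := M.cond _
  surj w s h := by
    obtain ⟨x, hx⟩ := M.surj w s h
    exact ⟨e.symm x, by simpa using hx⟩

/-- The fixed field of the involution, as an additive group. -/
def fixedAdd {F : Type v} [Field F] [Finite F] {q : ℕ} (hF : Nat.card F = q ^ 2) : AddSubgroup F where
  carrier := {z | z ^ q = z}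
  add_mem' := fun {a b} (ha : a ^ q = a) (hb : b ^ q = b) => by
    show (a + b) ^ q = a + b
    rw [add_pow_q hF, ha, hb]
  zero_mem' := zero_pow fun h => Nat.card_pos.ne' (by rw [hF, h, zero_pow two_ne_zero])
  neg_mem' := fun {a} (ha : a ^ q = a) => by
    show (-a) ^ q = -a
    rw [← frobQ_apply hF, map_neg, frobQ_apply, ha]

theorem main {F : Type v} [Field F] [Finite F] [CharP F 2] {q n : ℕ} (hF : Nat.card F = q ^ 2) (hn : n ≠ 0)
    (hq : q = 2 ^ n) {T : Type u} [Group T] (M : Model T F q) :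
    Cfsg.IsElementaryAbelian 2 (Cfsg.pCore 2 (MulAut T)) ∧
      Nat.card ↥(Cfsg.pCore 2 (MulAut T)) = 2 ^ (2 * n ^ 2) ∧
      Nat.card (MulAut T) = 2 ^ (2 * n ^ 2) * (2 * n * ((2 ^ n) ^ 2 - 1)) := by
  classical
  have := Fintype.ofFinite F
  have hq0 : q ≠ 0 := by rw [hq]; positivity
  have hNK := CfsgLib.Invol.U3Center.norm_fixed hF
  have hφ1 : M.φ 1 = 0 := by
    have := M.φ_mul 1 1
    rwa [mul_one, left_eq_add] at this
  have hι1 : M.ι 1 = 0 := by
    have := M.ι_mul 1 1
    rwa [mul_one, hφ1, zero_mul, add_zero, left_eq_add] at this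
  have hinv : ∀ x, M.φ x⁻¹ = M.φ x := fun x => by
    have := M.φ_mul x⁻¹ x
    rw [inv_mul_cancel, hφ1] at this
    exact CharTwo.add_eq_zero.1 this.symm
  have hιK : ∀ z, M.φ z = 0 → M.ι z ^ q = M.ι z := by
    intro z hz
    have := M.cond z
    rw [hz, zero_pow (Nat.succ_ne_zero q), add_zero] at this
    exact (CharTwo.add_eq_zero.1 this).symm
  have hcen : ∀ z, M.φ z = 0 → ∀ x, z * x = x * z := fun z hz x =>
    M.eq_of _ _ (by rw [M.φ_mul, M.φ_mul, add_comm])
      (by rw [M.ι_mul, M.ι_mul, hz, zero_pow hq0, mul_zero, zero_mul]; ring)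
  have hsq : ∀ x, M.φ (x * x) = 0 ∧ M.ι (x * x) = M.φ x ^ (q + 1) := fun x =>
    ⟨by rw [M.φ_mul, CharTwo.add_self_eq_zero], by
      rw [M.ι_mul, CharTwo.add_self_eq_zero, zero_add, ← pow_succ']⟩
  have hZ2 : ∀ z, M.φ z = 0 → z * z = 1 := fun z hz =>
    M.eq_of _ _ (by rw [(hsq z).1, hφ1]) (by rw [(hsq z).2, hz, zero_pow (Nat.succ_ne_zero q), hι1])
  have hroot : ∀ w : F, ∃ x, M.φ x = w := fun w => by
    obtain ⟨s, hs⟩ := exists_root hF (hNK w)
    obtain ⟨x, hx, -⟩ := M.surj w s hs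
    exact ⟨x, hx⟩
  choose sec hsec using hroot
  have hZsq : ∀ z, M.φ z = 0 → ∃ x, x * x = z := by
    intro z hz
    obtain ⟨w, hw⟩ := exists_norm_eq hF (hιK z hz)
    exact ⟨sec w, M.eq_of _ _ (by rw [(hsq _).1, hz]) (by rw [(hsq _).2, hsec, hw])⟩
  have hZpres : ∀ (α : MulAut T) z, M.φ z = 0 → M.φ (α z) = 0 := by
    intro α z hz
    obtain ⟨x, rfl⟩ := hZsq z hz
    rw [map_mul]
    exact (hsq _).1
  have hzero : ∀ c : fixedAdd hF, ∃ z, M.φ z = 0 ∧ M.ι z = c := fun c =>
    M.surj 0 c (by rw [show (c : F) ^ q = c from c.2, CharTwo.add_self_eq_zero, zero_pow (Nat.succ_ne_zero q), add_zero])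
  choose zsec hz₁ hz₂ using hzero
  have hdep : ∀ (α : MulAut T) x y, M.φ x = M.φ y → M.φ (α x) = M.φ (α y) := by
    intro α x y h
    have h0 : M.φ (x * y⁻¹) = 0 := by rw [M.φ_mul, hinv, h, CharTwo.add_self_eq_zero]
    have h1 := hZpres α _ h0
    rw [map_mul, map_inv, M.φ_mul, hinv] at h1
    exact CharTwo.add_eq_zero.1 h1
  let lin : MulAut T → F →+ F := fun α => AddMonoidHom.mk' (fun w => M.φ (α (sec w))) fun a b => by
    rw [hdep α (sec (a + b)) (sec a * sec b) (by rw [hsec, M.φ_mul, hsec, hsec]), map_mul, M.φ_mul]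
  have hlin : ∀ α x, lin α (M.φ x) = M.φ (α x) := fun α x => hdep α _ _ (hsec _)
  have hlininv : ∀ α w, lin α⁻¹ (lin α w) = w := fun α w => by
    show lin α⁻¹ (M.φ (α (sec w))) = w
    rw [hlin, MulAut.inv_apply_self, hsec]
  have hlinbij : ∀ α, Function.Bijective (lin α) := fun α =>
    Finite.injective_iff_bijective.1 (Function.LeftInverse.injective (hlininv α))
  -- the action on the quotient by the centre
  let ρ : MulAut T →* Equiv.Perm F :=
    { toFun := fun α => Equiv.ofBijective (lin α) (hlinbij α)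
      map_one' := Equiv.ext fun w => hsec w
      map_mul' := fun α β => Equiv.ext fun w => (hlin α (β (sec w))).symm }
  have hρ : ∀ α w, ρ α w = lin α w := fun _ _ => rfl
  have hkermem : ∀ α : MulAut T, α ∈ ρ.ker ↔ ∀ x, M.φ (α x) = M.φ x := by
    intro α
    rw [MonoidHom.mem_ker]
    refine ⟨fun h x => ?_, fun h => Equiv.ext fun w => ?_⟩
    · rw [← hlin, ← hρ, h]; rfl
    · rw [hρ]; show M.φ (α (sec w)) = w; rw [h, hsec]
  -- the possible actions
  have hsemi : ∀ α : MulAut T, ∃ (a : Fˣ) (σ : F ≃+* F), ∀ w, lin α w = (a : F) * σ w := by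
    intro α
    let B : F → F := fun c => if h : c ∈ fixedAdd hF then M.ι (α (zsec ⟨c, h⟩)) else 0
    have hB : ∀ c (h : c ∈ fixedAdd hF), B c = M.ι (α (zsec ⟨c, h⟩)) := fun c h => dif_pos h
    refine exists_semilinear hF (lin α) (hlinbij α).1 B (fun c d hc hd h => ?_) (fun c d hc hd => ?_) (fun w => ?_)
    · rw [hB c hc, hB d hd] at h
      have h' := α.injective (M.eq_of _ _ (by rw [hZpres α _ (hz₁ _), hZpres α _ (hz₁ _)]) h)
      have h'' := congrArg M.ι h'
      rwa [hz₂, hz₂] at h''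
    · rw [hB _ ((fixedAdd hF).add_mem hc hd), hB c hc, hB d hd,
        show zsec ⟨c + d, _⟩ = zsec ⟨c, hc⟩ * zsec ⟨d, hd⟩ from M.eq_of _ _
          (by rw [M.φ_mul, hz₁, hz₁, hz₁, add_zero])
          (by rw [M.ι_mul, hz₂, hz₂, hz₂, hz₁ ⟨d, hd⟩, zero_mul, add_zero]),
        map_mul, M.ι_mul, hZpres α _ (hz₁ ⟨d, hd⟩), zero_mul, add_zero]
    · rw [hB _ (show w ^ (q + 1) ∈ fixedAdd hF from hNK w),
        show zsec ⟨w ^ (q + 1), hNK w⟩ = sec w * sec w from M.eq_of _ _ (by rw [hz₁, (hsq _).1])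
          (by rw [hz₂, (hsq _).2, hsec]), map_mul, (hsq _).2]
      rfl
  have hmk : ∀ p : Fˣ × (F ≃+* F), ∃ α : MulAut T, ∀ w, lin α w = (p.1 : F) * p.2 w := by
    rintro ⟨a, σ⟩
    have hc : ∀ x, ((a : F) ^ (q + 1) * σ (M.ι x)) + ((a : F) ^ (q + 1) * σ (M.ι x)) ^ q +
        ((a : F) * σ (M.φ x)) ^ (q + 1) = 0 := by
      intro x
      have h := congrArg σ (M.cond x)
      rw [map_add, map_add, map_pow, map_pow, map_zero] at h
      rw [mul_pow, hNK, mul_pow, ← mul_add, ← mul_add, h, mul_zero]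
    choose f hf₁ hf₂ using fun x => M.surj _ _ (hc x)
    let g : T →* T := MonoidHom.mk' f fun x y => M.eq_of _ _
      (by rw [M.φ_mul, hf₁, hf₁, hf₁, M.φ_mul, map_add, mul_add])
      (by rw [M.ι_mul, hf₂, hf₂, hf₂, hf₁, hf₁, M.ι_mul, map_add, map_add, map_mul, map_pow]; ring)
    have hginj : Function.Injective g := fun x y h => by
      have h1 : M.φ (f x) = M.φ (f y) := congrArg M.φ h
      have h2 : M.ι (f x) = M.ι (f y) := congrArg M.ι h
      rw [hf₁, hf₁] at h1
      rw [hf₂, hf₂] at h2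
      exact M.eq_of _ _ (σ.injective (mul_left_cancel₀ a.ne_zero h1))
        (σ.injective (mul_left_cancel₀ (pow_ne_zero _ a.ne_zero) h2))
    have : Finite T := Finite.of_injective (fun x => (M.φ x, M.ι x)) fun x y h =>
      M.eq_of x y (congrArg Prod.fst h) (congrArg Prod.snd h)
    refine ⟨MulEquiv.ofBijective g (Finite.injective_iff_bijective.1 hginj), fun w => ?_⟩
    show M.φ (f (sec w)) = _
    rw [hf₁, hsec]
  choose mk hmk' using hmk
  -- the kernel
  let δ : MulAut T → T → T := fun α x => x⁻¹ * α x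
  have hδ : ∀ α x, α x = x * δ α x := fun α x => (mul_inv_cancel_left x (α x)).symm
  have hδZ : ∀ α ∈ ρ.ker, ∀ x, M.φ (δ α x) = 0 := fun α hα x => by
    rw [show δ α x = x⁻¹ * α x from rfl, M.φ_mul, hinv, (hkermem α).1 hα, CharTwo.add_self_eq_zero]
  have hfix : ∀ α ∈ ρ.ker, ∀ z, M.φ z = 0 → α z = z := by
    intro α hα z hz
    obtain ⟨x, rfl⟩ := hZsq z hz
    have h0 := hδZ α hα x
    rw [map_mul, hδ α x, mul_assoc x, ← mul_assoc (δ α x), hcen _ h0 x, mul_assoc x, hZ2 _ h0, mul_one]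
  have hcomp : ∀ α ∈ ρ.ker, ∀ β ∈ ρ.ker, ∀ x, α (β x) = x * (δ α x * δ β x) := fun α hα β hβ x => by
    rw [hδ β x, map_mul, hfix α hα _ (hδZ β hβ x), hδ α x, mul_assoc]
  have helem : Cfsg.IsElementaryAbelian 2 ρ.ker := by
    refine ⟨⟨⟨fun ⟨α, hα⟩ ⟨β, hβ⟩ => Subtype.ext (MulEquiv.ext fun x => ?_)⟩⟩, fun α hα => MulEquiv.ext fun x => ?_⟩
    · show α (β x) = β (α x)
      rw [hcomp α hα β hβ, hcomp β hβ α hα, hcen _ (hδZ α hα x)]
    · rw [pow_two]
      show α (α x) = x
      rw [hcomp α hα α hα, hZ2 _ (hδZ α hα x), mul_one]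
  have hkercard : Nat.card ρ.ker = 2 ^ (2 * n ^ 2) := by
    let toHom : ρ.ker → F →+ fixedAdd hF := fun α => AddMonoidHom.mk'
      (fun w => ⟨M.ι (δ α.1 (sec w)), hιK _ (hδZ _ α.2 _)⟩) fun a b => Subtype.ext <| by
        show M.ι (δ α.1 (sec (a + b))) = M.ι (δ α.1 (sec a)) + M.ι (δ α.1 (sec b))
        obtain ⟨z, hz, he⟩ : ∃ z, M.φ z = 0 ∧ sec (a + b) = sec a * sec b * z :=
          ⟨(sec a * sec b)⁻¹ * sec (a + b), by
            rw [M.φ_mul, hinv, M.φ_mul, hsec, hsec, hsec, CharTwo.add_self_eq_zero],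
            (mul_inv_cancel_left _ _).symm⟩
        have hmul : ∀ x y, δ α.1 (x * y) = δ α.1 x * δ α.1 y := fun x y => by
          show (x * y)⁻¹ * α.1 (x * y) = _
          rw [map_mul, hδ α.1 x, hδ α.1 y, mul_inv_rev, show x * δ α.1 x * (y * δ α.1 y) = x * ((δ α.1 x * y) * δ α.1 y) by group,
            hcen _ (hδZ _ α.2 x) y]
          group
        have hz1 : δ α.1 z = 1 := by
          show z⁻¹ * α.1 z = 1
          rw [hfix _ α.2 z hz, inv_mul_cancel]
        rw [he, hmul, hmul, hz1, mul_one, M.ι_mul, hδZ _ α.2 (sec b), zero_mul, add_zero]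
    have hbij : Function.Bijective toHom := by
      constructor
      · intro α β h
        refine Subtype.ext (MulEquiv.ext fun x => ?_)
        have hval : ∀ γ : ρ.ker, ∀ y, δ γ.1 y = δ γ.1 (sec (M.φ y)) := fun γ y => by
          set x := sec (M.φ y) with hx
          have hz : M.φ (x⁻¹ * y) = 0 := by rw [M.φ_mul, hinv, hx, hsec, CharTwo.add_self_eq_zero]
          have := hfix _ γ.2 _ hz
          rw [map_mul, map_inv, inv_mul_eq_iff_eq_mul] at this
          show y⁻¹ * γ.1 y = x⁻¹ * γ.1 x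
          rw [this, hδ γ.1 x, show y⁻¹ * (x * δ γ.1 x * (x⁻¹ * y)) = y⁻¹ * x * (δ γ.1 x * (x⁻¹ * y)) by group,
            hcen _ (hδZ _ γ.2 x)]
          group
        have h1 := congrArg Subtype.val (DFunLike.congr_fun h (M.φ x))
        have h2 : δ α.1 x = δ β.1 x := by
          rw [hval α, hval β]
          exact M.eq_of _ _ (by rw [hδZ _ α.2, hδZ _ β.2]) h1
        rw [hδ α.1, hδ β.1, h2]
      · intro f
        let g : T →* T := MonoidHom.mk' (fun x => x * zsec (f (M.φ x))) fun x y => by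
          have hc := hcen _ (hz₁ (f (M.φ x))) y
          rw [show x * zsec (f (M.φ x)) * (y * zsec (f (M.φ y))) = x * (zsec (f (M.φ x)) * y) * zsec (f (M.φ y)) by group, hc,
            show x * (y * zsec (f (M.φ x))) * zsec (f (M.φ y)) = x * y * (zsec (f (M.φ x)) * zsec (f (M.φ y))) by group]
          congr 1
          exact M.eq_of _ _ (by rw [M.φ_mul (zsec _), hz₁, hz₁, hz₁, add_zero])
            (by rw [M.ι_mul, hz₂, hz₂, hz₂, hz₁ (f (M.φ y)), zero_mul, add_zero, M.φ_mul, map_add, AddSubgroup.coe_add])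
        have hgφ : ∀ x, M.φ (g x) = M.φ x := fun x => by
          show M.φ (x * zsec _) = _
          rw [M.φ_mul, hz₁, add_zero]
        have hginj : Function.Injective g := fun x y h => by
          have h' : M.φ x = M.φ y := by rw [← hgφ x, ← hgφ y, h]
          have h'' : x * zsec (f (M.φ x)) = y * zsec (f (M.φ y)) := h
          rw [h'] at h''
          exact mul_right_cancel h''
        have : Finite T := Finite.of_injective (fun x => (M.φ x, M.ι x)) fun x y h =>
          M.eq_of x y (congrArg Prod.fst h) (congrArg Prod.snd h)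
        refine ⟨⟨MulEquiv.ofBijective g (Finite.injective_iff_bijective.1 hginj), (hkermem _).2 hgφ⟩,
          AddMonoidHom.ext fun w => Subtype.ext ?_⟩
        show M.ι ((sec w)⁻¹ * (sec w * zsec (f (M.φ (sec w))))) = (f w : F)
        rw [inv_mul_cancel_left, hz₂, hsec]
    letI : Algebra (ZMod 2) F := ZMod.algebra F 2
    letI : Module (ZMod 2) (fixedAdd hF) := AddCommGroup.zmodModule fun x => Subtype.ext <| by
      show (2 • x : fixedAdd hF).1 = 0
      rw [two_nsmul, AddSubgroup.coe_add, CharTwo.add_self_eq_zero]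
    have e : Nat.card (F →+ fixedAdd hF) = Nat.card (F →ₗ[ZMod 2] fixedAdd hF) :=
      Nat.card_congr
        { toFun := fun f => f.toZModLinearMap 2
          invFun := fun f => f.toAddMonoidHom
          left_inv := fun f => rfl
          right_inv := fun f => rfl }
    rw [Nat.card_congr (Equiv.ofBijective toHom hbij), e,
      Module.natCard_eq_pow_finrank (K := ZMod 2), Nat.card_zmod, Module.finrank_linearMap]
    have h1 := Module.natCard_eq_pow_finrank (K := ZMod 2) (V := F)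
    have h2 := Module.natCard_eq_pow_finrank (K := ZMod 2) (V := fixedAdd hF)
    rw [Nat.card_zmod] at h1 h2
    rw [hF, hq, ← pow_mul] at h1
    rw [show Nat.card (fixedAdd hF) = q from CfsgLib.Invol.U3Center.card_fixed hF] at h2
    rw [← Nat.pow_right_injective le_rfl h1, ← Nat.pow_right_injective le_rfl (hq.symm.trans h2)]
    ring
  have hrange : Nat.card ρ.range = 2 * n * ((2 ^ n) ^ 2 - 1) := by
    let P : Fˣ × (F ≃+* F) → ρ.range := fun p => ⟨ρ (mk p), ⟨mk p, rfl⟩⟩
    have hP : Function.Bijective P := by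
      constructor
      · rintro ⟨a, σ⟩ ⟨b, τ⟩ h
        have h1 : ∀ w, (a : F) * σ w = (b : F) * τ w := fun w => by
          have := Equiv.congr_fun (congrArg Subtype.val h) w
          rwa [hρ, hρ, hmk', hmk'] at this
        have hab : a = b := Units.ext (by simpa using h1 1)
        subst hab
        exact Prod.ext rfl (RingEquiv.ext fun w => mul_left_cancel₀ a.ne_zero (h1 w))
      · rintro ⟨_, α, rfl⟩
        obtain ⟨a, σ, h⟩ := hsemi α
        exact ⟨(a, σ), Subtype.ext (Equiv.ext fun w => by rw [hρ, hρ, hmk', h])⟩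
    letI : Algebra (ZMod 2) F := ZMod.algebra F 2
    have h1 := Module.natCard_eq_pow_finrank (K := ZMod 2) (V := F)
    rw [Nat.card_zmod, hF, hq, ← pow_mul] at h1
    rw [← Nat.card_congr (Equiv.ofBijective P hP), Nat.card_prod, Nat.card_units, hF, hq,
      CfsgLib.Recog.FieldSpan.card_aut, ← Nat.pow_right_injective le_rfl h1]
    ring
  have hcore : Cfsg.pCore 2 (MulAut T) = ρ.ker := by
    refine le_antisymm (sSup_le ?_) (le_sSup ⟨inferInstance, fun α => ⟨1, Subtype.ext (by
      rw [pow_one]; exact helem.2 α.1 α.2)⟩⟩)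
    rintro N ⟨hNn, hNp⟩ α hα
    obtain ⟨a, σ, hασ⟩ := hsemi α
    have hroot2 : ∀ (e : F) (k : ℕ), e ^ 2 ^ k = 1 → e = 1 := fun e k h => by
      refine sub_eq_zero.1 ((pow_eq_zero_iff (show 2 ^ k ≠ 0 by positivity)).1 ?_)
      rw [sub_pow_char_pow, h, one_pow, sub_self]
    have hσ : ∀ c : F, σ c = c := by
      intro c
      rcases eq_or_ne c 0 with rfl | hc
      · exact map_zero σ
      let μ := mk (Units.mk0 c hc, RingEquiv.refl F)
      have hμ : ∀ w, lin μ w = c * w := fun w => hmk' _ w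
      let β := α * μ * (μ * α)⁻¹
      have hβ : β ∈ N := by
        rw [show β = α * (μ * α⁻¹ * μ⁻¹) by simp only [β]; group]
        exact N.mul_mem hα (hNn.conj_mem _ (N.inv_mem hα) μ)
      have hact : ∀ u, ρ β u = σ c / c * u := by
        intro u
        obtain ⟨w, rfl⟩ := (ρ (μ * α)).surjective u
        rw [← Equiv.Perm.mul_apply, ← map_mul, show β * (μ * α) = α * μ from inv_mul_cancel_right _ _,
          map_mul, map_mul, Equiv.Perm.mul_apply, Equiv.Perm.mul_apply, hρ, hρ, hρ, hρ, hασ, hμ, hμ, hασ, map_mul]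
        field_simp
      obtain ⟨k, hk⟩ := hNp ⟨β, hβ⟩
      have hpow : ∀ m u, ρ (β ^ m) u = (σ c / c) ^ m * u := by
        intro m
        induction m with
        | zero => intro u; rw [pow_zero, map_one, pow_zero, one_mul]; rfl
        | succ m ih => intro u; rw [pow_succ, map_mul, Equiv.Perm.mul_apply, hact, ih, ← mul_assoc, ← pow_succ]
      have h := hpow (2 ^ k) 1
      rw [show β ^ 2 ^ k = 1 from congrArg Subtype.val hk, map_one ρ, mul_one] at h
      exact (div_eq_one_iff_eq hc).1 (hroot2 _ k h.symm)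
    have hact : ∀ u, ρ α u = (a : F) * u := fun u => by rw [hρ, hασ, hσ]
    obtain ⟨k, hk⟩ := hNp ⟨α, hα⟩
    have hpow : ∀ m u, ρ (α ^ m) u = (a : F) ^ m * u := by
      intro m
      induction m with
      | zero => intro u; rw [pow_zero, map_one, pow_zero, one_mul]; rfl
      | succ m ih => intro u; rw [pow_succ, map_mul, Equiv.Perm.mul_apply, hact, ih, ← mul_assoc, ← pow_succ]
    have h := hpow (2 ^ k) 1
    rw [show α ^ 2 ^ k = 1 from congrArg Subtype.val hk, map_one ρ, mul_one] at h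
    refine MonoidHom.mem_ker.2 (Equiv.ext fun u => ?_)
    rw [hact, hroot2 _ k h.symm, one_mul]
    rfl
  refine ⟨hcore ▸ helem, by rw [hcore, hkercard], ?_⟩
  rw [Subgroup.card_eq_card_quotient_mul_card_subgroup ρ.ker,
    Nat.card_congr (QuotientGroup.quotientKerEquivRange ρ).toEquiv, hrange, hkercard, mul_comm]

end CfsgLib.SUThreeSylowAut
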